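import Mathlib

set_option linter.unusedSectionVars false
set_option linter.unusedVariables false
set_option linter.unusedSimpArgs false
set_option autoImplicit false
set_option linter.style.haveILetI false
set_option maxHeartbeats 400000

universe u

noncomputable section

namespace Groth.Agent.Helper6.DRef

open CategoryTheory CategoryTheory.Limits Opposite

variable {C : Type u} [SmallCategory C] (J : GrothendieckTopology C)

/-- the functor `U ↦ ℤ[h_U]^#` -/
abbrev Fr : C ⥤ Sheaf J AddCommGrpCat.{u} :=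
  yoneda ⋙ (Functor.whiskeringRight _ _ _).obj AddCommGrpCat.free.{u} ⋙
    presheafToSheaf J AddCommGrpCat.{u}

/-- the composite adjunction (free abelian sheaf on a presheaf of sets) -/
def adjc : (Functor.whiskeringRight Cᵒᵖ _ _).obj AddCommGrpCat.free.{u} ⋙
      presheafToSheaf J AddCommGrpCat.{u} ⊣
    sheafToPresheaf J AddCommGrpCat.{u} ⋙
      (Functor.whiskeringRight Cᵒᵖ _ _).obj (forget AddCommGrpCat.{u}) :=
  ((AddCommGrpCat.adj.{u}).whiskerRight Cᵒᵖ).comp (sheafificationAdjunction J AddCommGrpCat.{u})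

/-- morphisms out of `ℤ[h_U]^#` are sections over `U` -/
def secEquiv (U : C) (F : Sheaf J AddCommGrpCat.{u}) :
    ((Fr J).obj U ⟶ F) ≃ ToType (F.obj.obj (op U)) :=
  ((adjc J).homEquiv (yoneda.obj U) F).trans yonedaEquiv

lemma secEquiv_comp (U : C) {F G : Sheaf J AddCommGrpCat.{u}} (a : (Fr J).obj U ⟶ F) (b : F ⟶ G) :
    secEquiv J U G (a ≫ b) = b.hom.app (op U) (secEquiv J U F a) := by
  simp only [secEquiv, Equiv.trans_apply, Adjunction.homEquiv_naturality_right]
  rw [yonedaEquiv_comp]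
  rfl

lemma secEquiv_map_comp {U V : C} (f : V ⟶ U) {F : Sheaf J AddCommGrpCat.{u}}
    (a : (Fr J).obj U ⟶ F) :
    secEquiv J V F ((Fr J).map f ≫ a) = F.obj.map f.op (secEquiv J U F a) := by
  simp only [secEquiv, Equiv.trans_apply]
  have h := (adjc J).homEquiv_naturality_left (yoneda.map f) a
  erw [h]
  rw [← yonedaEquiv_naturality]
  rfl

/-- the universal section of `ℤ[h_U]^#` over `U` -/
def univSec (U : C) : ToType (((Fr J).obj U).obj.obj (op U)) := secEquiv J U _ (𝟙 _)

lemma secEquiv_eq (U : C) {F : Sheaf J AddCommGrpCat.{u}} (a : (Fr J).obj U ⟶ F) :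
    secEquiv J U F a = a.hom.app (op U) (univSec J U) := by
  have := secEquiv_comp J U (𝟙 _) a
  rwa [Category.id_comp] at this

lemma secEquiv_add (U : C) {F : Sheaf J AddCommGrpCat.{u}} (a b : (Fr J).obj U ⟶ F) :
    secEquiv J U F (a + b) = secEquiv J U F a + secEquiv J U F b := by
  rw [secEquiv_eq, secEquiv_eq, secEquiv_eq]
  rfl

lemma secEquiv_zero (U : C) (F : Sheaf J AddCommGrpCat.{u}) :
    secEquiv J U F 0 = 0 := by
  rw [secEquiv_eq]
  rfl

lemma exists_local_lift {U : C} {P' : Sheaf J AddCommGrpCat.{u}} (π : P' ⟶ (Fr J).obj U)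
    [Epi π] :
    ∃ S ∈ J U, ∀ ⦃V : C⦄ (f : V ⟶ U), S f →
      ∃ t : (Fr J).obj V ⟶ P', t ≫ π = (Fr J).map f := by
  have h1 : Sheaf.IsLocallySurjective π :=
    (Sheaf.isLocallySurjective_iff_epi' AddCommGrpCat.{u} π).2 inferInstance
  refine ⟨Presheaf.imageSieve π.hom (univSec J U), Presheaf.imageSieve_mem J π.hom _, ?_⟩
  rintro V f ⟨p, hp⟩
  refine ⟨(secEquiv J V P').symm p, ?_⟩
  apply (secEquiv J V _).injective
  rw [secEquiv_comp, Equiv.apply_symm_apply, hp]
  have := secEquiv_map_comp J f (𝟙 ((Fr J).obj U))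
  rw [Category.comp_id] at this
  rw [this]
  rfl

end Groth.Agent.Helper6.DRef
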