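import Mathlib

set_option linter.unusedSectionVars false
set_option linter.unusedVariables false
set_option linter.unusedSimpArgs false
set_option autoImplicit false
set_option linter.style.haveILetI false
set_option maxHeartbeats 400000

universe w v u

noncomputable section

namespace Groth.Agent.Helper6.DRef

open CategoryTheory CategoryTheory.Limits HomologicalComplex DerivedCategory

variable {C : Type u} [Category.{v} C] [Abelian C]

/-- the complex with `P` in degree zero -/
abbrev sgl (P : C) : CochainComplex C ℤ := (single C (ComplexShape.up ℤ) 0).obj P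

/-- the chain map `P[0] ⟶ K` attached to a zero-cycle `z : P ⟶ K⁰`. -/
def ofCycle {P : C} {K : CochainComplex C ℤ} (z : P ⟶ K.X 0) (hz : z ≫ K.d 0 1 = 0) :
    sgl P ⟶ K :=
  mkHomFromSingle z (by
    intro k hk
    obtain rfl : (0 : ℤ) + 1 = k := hk
    exact hz)

lemma ofCycle_f {P : C} {K : CochainComplex C ℤ} (z : P ⟶ K.X 0) (hz : z ≫ K.d 0 1 = 0) :
    (ofCycle z hz).f 0 = (singleObjXSelf (ComplexShape.up ℤ) 0 P).hom ≫ z :=
  mkHomFromSingle_f _ _

lemma single_map_comp_ofCycle {P P' : C} (π : P' ⟶ P) {K : CochainComplex C ℤ}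
    (z : P ⟶ K.X 0) (hz : z ≫ K.d 0 1 = 0) :
    (single C (ComplexShape.up ℤ) 0).map π ≫ ofCycle z hz =
      ofCycle (π ≫ z) (by rw [Category.assoc, hz, comp_zero]) := by
  apply from_single_hom_ext
  rw [HomologicalComplex.comp_f, ofCycle_f, ofCycle_f, single_map_f_self]
  simp

lemma ofCycle_comp {P : C} {K L : CochainComplex C ℤ}
    (z : P ⟶ K.X 0) (hz : z ≫ K.d 0 1 = 0) (f : K ⟶ L) :
    ofCycle z hz ≫ f =
      ofCycle (z ≫ f.f 0) (by rw [Category.assoc, f.comm, reassoc_of% hz, zero_comp]) := by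
  apply from_single_hom_ext
  rw [HomologicalComplex.comp_f, ofCycle_f, ofCycle_f, Category.assoc]

/-- the cycle-level lift -/
lemma singleInv_cyclesMap_ofCycle {P : C} {K : CochainComplex C ℤ}
    (z : P ⟶ K.X 0) (hz : z ≫ K.d 0 1 = 0) :
    (singleObjCyclesSelfIso (ComplexShape.up ℤ) 0 P).inv ≫ cyclesMap (ofCycle z hz) 0 =
      K.liftCycles z 1 (by simp) hz := by
  rw [← cancel_mono (K.iCycles 0), Category.assoc, cyclesMap_i,
    singleObjCyclesSelfIso_inv_iCycles_assoc, ofCycle_f, Iso.inv_hom_id_assoc, liftCycles_i]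

lemma singleInv_homologyMap_ofCycle {P : C} {K : CochainComplex C ℤ}
    (z : P ⟶ K.X 0) (hz : z ≫ K.d 0 1 = 0) :
    (singleObjHomologySelfIso (ComplexShape.up ℤ) 0 P).inv ≫ homologyMap (ofCycle z hz) 0 =
      K.liftCycles z 1 (by simp) hz ≫ K.homologyπ 0 := by
  rw [← singleObjCyclesSelfIso_inv_homologyπ, Category.assoc, homologyπ_naturality,
    ← Category.assoc, singleInv_cyclesMap_ofCycle]

/-- the universal cycle chain map `Z⁰(L)[0] ⟶ L`. -/
def cycleIncl (L : CochainComplex C ℤ) : sgl (L.cycles 0) ⟶ L :=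
  ofCycle (L.iCycles 0) (by simp)

/-- for `s : L ⟶ P[0]`, the composite `Z⁰(L) ⟶ H⁰(L) ⟶ H⁰(P[0]) ≅ P`. -/
def cycleProj {P : C} (L : CochainComplex C ℤ) (s : L ⟶ sgl P) : L.cycles 0 ⟶ P :=
  L.homologyπ 0 ≫ homologyMap s 0 ≫ (singleObjHomologySelfIso (ComplexShape.up ℤ) 0 P).hom

lemma cycleIncl_comp {P : C} (L : CochainComplex C ℤ) (s : L ⟶ sgl P) :
    cycleIncl L ≫ s = (single C (ComplexShape.up ℤ) 0).map (cycleProj L s) := by
  apply from_single_hom_ext
  rw [HomologicalComplex.comp_f, cycleIncl, ofCycle_f, single_map_f_self, Category.assoc]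
  congr 1
  rw [← cancel_mono (singleObjXSelf (ComplexShape.up ℤ) 0 P).hom, Category.assoc, Category.assoc,
    Iso.inv_hom_id, Category.comp_id, ← cyclesMap_i_assoc, ← singleObjCyclesSelfIso_hom,
    ← homologyπ_singleObjHomologySelfIso_hom, ← Category.assoc, ← homologyπ_naturality,
    Category.assoc, cycleProj]

lemma epi_cycleProj {P : C} (L : CochainComplex C ℤ) (s : L ⟶ sgl P) [QuasiIso s] :
    Epi (cycleProj L s) := by
  unfold cycleProj
  infer_instance

end Groth.Agent.Helper6.DRef
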