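import Mathlib
import Groth.Agent.Lib.Helper6.DRef.Basic

set_option linter.unusedSectionVars false
set_option linter.unusedVariables false
set_option linter.unusedSimpArgs false
set_option autoImplicit false
set_option linter.style.haveILetI false
set_option maxHeartbeats 400000

universe w v u

noncomputable section

namespace Groth.Agent.Helper6.DRef

open CategoryTheory CategoryTheory.Limits HomologicalComplex DerivedCategory
open CochainComplex.HomComplex

variable {C : Type u} [Category.{v} C] [Abelian C]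

lemma ofHom_ofCycle {P : C} {K : CochainComplex C ℤ} (z : P ⟶ K.X 0) (hz : z ≫ K.d 0 1 = 0) :
    Cochain.ofHom (ofCycle z hz) =
      (Cochain.fromSingleMk (p := 0) z (zero_add 0) : Cochain (sgl P) K 0) := by
  apply (Cochain.fromSingleEquiv (X := P) (K := K) (p := 0) (q := 0) (n := 0) (zero_add 0)).injective
  rw [Cochain.fromSingleEquiv_fromSingleMk]
  change (singleObjXSelf (ComplexShape.up ℤ) 0 P).inv ≫ (Cochain.ofHom (ofCycle z hz)).v 0 0 _ = z
  rw [Cochain.ofHom_v, ofCycle_f, Iso.inv_hom_id_assoc]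

/-- a boundary gives a null-homotopic map -/
def ofCycleBoundaryHomotopy {P : C} {K : CochainComplex C ℤ} (y : P ⟶ K.X (-1)) :
    Homotopy (ofCycle (y ≫ K.d (-1) 0) (by simp)) 0 :=
  (Cochain.equivHomotopy _ _).symm ⟨(Cochain.fromSingleMk (p := 0) y
      (by simp : (0 : ℤ) + (-1) = -1) : Cochain (sgl P) K (-1)), by
    have h := Cochain.δ_fromSingleMk (p := 0) y (by simp : (0 : ℤ) + (-1) = -1) 0 0 (zero_add 0)
    rw [ofHom_ofCycle, Cochain.ofHom_zero, add_zero]
    exact h.symm⟩

variable [HasDerivedCategory.{w} C]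

lemma Q_map_ofCycle_boundary {P : C} {K : CochainComplex C ℤ} (y : P ⟶ K.X (-1)) :
    Q.map (ofCycle (y ≫ K.d (-1) 0) (by simp)) = 0 := by
  rw [DerivedCategory.Q_map_eq_of_homotopy C (ofCycleBoundaryHomotopy y), Functor.map_zero]

/-- `H⁰(Q K) ≅ H⁰(K)` with explicit types -/
def hff (K : CochainComplex C ℤ) :
    (DerivedCategory.homologyFunctor C 0).obj (Q.obj K) ≅ K.homology 0 :=
  (homologyFunctorFactors C 0).app K

lemma hff_hom_naturality {K L : CochainComplex C ℤ} (f : K ⟶ L) :
    (DerivedCategory.homologyFunctor C 0).map (Q.map f) ≫ (hff L).hom =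
      (hff K).hom ≫ homologyMap f 0 :=
  homologyFunctorFactors_hom_naturality f 0

lemma hff_inv_naturality {K L : CochainComplex C ℤ} (f : K ⟶ L) :
    (hff K).inv ≫ (DerivedCategory.homologyFunctor C 0).map (Q.map f) =
      homologyMap f 0 ≫ (hff L).inv := by
  rw [Iso.inv_comp_eq, ← Category.assoc, Iso.eq_comp_inv, hff_hom_naturality]

/-- the class in `H⁰` of a morphism out of `P[0]` in the derived category -/
def cls {P : C} {K : DerivedCategory C} (ξ : Q.obj (sgl P) ⟶ K) :
    P ⟶ (DerivedCategory.homologyFunctor C 0).obj K :=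
  (singleObjHomologySelfIso (ComplexShape.up ℤ) 0 P).inv ≫
    (hff (sgl P)).inv ≫ (DerivedCategory.homologyFunctor C 0).map ξ

lemma cls_postcomp {P : C} {K K' : DerivedCategory C} (ξ : Q.obj (sgl P) ⟶ K) (κ : K ⟶ K') :
    cls (ξ ≫ κ) = cls ξ ≫ (DerivedCategory.homologyFunctor C 0).map κ := by
  simp only [cls, Functor.map_comp, Category.assoc]

lemma cls_precomp {P P' : C} (π : P' ⟶ P) {K : DerivedCategory C} (ξ : Q.obj (sgl P) ⟶ K) :
    cls (Q.map ((single C (ComplexShape.up ℤ) 0).map π) ≫ ξ) = π ≫ cls ξ := by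
  simp only [cls, Functor.map_comp]
  rw [← Category.assoc (hff (sgl P')).inv, hff_inv_naturality]
  simp only [Category.assoc]
  rw [singleObjHomologySelfIso_inv_naturality_assoc]

lemma cls_add {P : C} {K : DerivedCategory C} (ξ ξ' : Q.obj (sgl P) ⟶ K) :
    cls (ξ + ξ') = cls ξ + cls ξ' := by
  simp only [cls, Functor.map_add, Preadditive.comp_add]

lemma cls_Q_ofCycle {P : C} {K : CochainComplex C ℤ} (z : P ⟶ K.X 0) (hz : z ≫ K.d 0 1 = 0) :
    cls (Q.map (ofCycle z hz)) ≫ (hff K).hom =
      K.liftCycles z 1 (by simp) hz ≫ K.homologyπ 0 := by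
  simp only [cls, Category.assoc]
  rw [hff_hom_naturality, Iso.inv_hom_id_assoc]
  exact singleInv_homologyMap_ofCycle z hz

end Groth.Agent.Helper6.DRef
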