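import Mathlib
import Groth.Agent.Lib.Helper6.DRef.Kill

set_option linter.unusedSectionVars false
set_option linter.unusedVariables false
set_option linter.unusedSimpArgs false
set_option autoImplicit false
set_option linter.style.haveILetI false
set_option maxHeartbeats 400000

universe w v u

noncomputable section

namespace Groth.Agent.Helper6.DRef

open CategoryTheory CategoryTheory.Limits HomologicalComplex DerivedCategory

variable {C : Type u} [Category.{v} C] [Abelian C] [HasDerivedCategory.{w} C]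

lemma ofCycle_congr {P : C} {K : CochainComplex C ℤ} {z z' : P ⟶ K.X 0} (h : z = z')
    (hz : z ≫ K.d 0 1 = 0) : ofCycle z hz = ofCycle z' (h ▸ hz) := by
  subst h; rfl

lemma exists_epi_kill_Q {P : C} {K : CochainComplex C ℤ} (ξ : Q.obj (sgl P) ⟶ Q.obj K)
    (h : cls ξ = 0) :
    ∃ (P' : C) (π : P' ⟶ P) (_ : Epi π),
      Q.map ((single C (ComplexShape.up ℤ) 0).map π) ≫ ξ = 0 := by
  obtain ⟨L, s, hs, f, rfl⟩ := right_fac ξ
  haveI : QuasiIso s := (isIso_Q_map_iff_quasiIso C s).1 hs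
  haveI := epi_cycleProj L s
  have e1 : Q.map ((single C (ComplexShape.up ℤ) 0).map (cycleProj L s)) ≫
      inv (Q.map s) ≫ Q.map f = Q.map (cycleIncl L ≫ f) := by
    rw [← cycleIncl_comp, Functor.map_comp, Functor.map_comp, Category.assoc,
      IsIso.hom_inv_id_assoc]
  have hz0 : (L.iCycles 0 ≫ f.f 0) ≫ K.d 0 1 = 0 := by
    rw [Category.assoc, f.comm, iCycles_d_assoc, zero_comp]
  have e2 : cycleIncl L ≫ f = ofCycle (L.iCycles 0 ≫ f.f 0) hz0 := ofCycle_comp _ _ f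
  have e3 : cls (Q.map (ofCycle (L.iCycles 0 ≫ f.f 0) hz0)) = 0 := by
    rw [← e2, ← e1, cls_precomp, h, comp_zero]
  have e4 := cls_Q_ofCycle (L.iCycles 0 ≫ f.f 0) hz0
  rw [e3, zero_comp] at e4
  obtain ⟨P₂, π₂, hπ₂, y, hy⟩ :=
    (CokernelCofork.IsColimit.comp_π_eq_zero_iff_up_to_refinements
      (K.homologyIsCokernel (-1) 0 (by simp)) _).1 e4.symm
  have hy' : π₂ ≫ (L.iCycles 0 ≫ f.f 0) = y ≫ K.d (-1) 0 := by
    have := hy =≫ K.iCycles 0
    simpa using this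
  refine ⟨P₂, π₂ ≫ cycleProj L s, epi_comp _ _, ?_⟩
  rw [Functor.map_comp, Functor.map_comp, Category.assoc, e1, e2, ← Functor.map_comp,
    single_map_comp_ofCycle, ofCycle_congr hy', Q_map_ofCycle_boundary]

lemma exists_epi_lift_Q {P : C} {K : CochainComplex C ℤ}
    (a : P ⟶ (DerivedCategory.homologyFunctor C 0).obj (Q.obj K)) :
    ∃ (P' : C) (π : P' ⟶ P) (_ : Epi π) (ξ : Q.obj (sgl P') ⟶ Q.obj K), cls ξ = π ≫ a := by
  obtain ⟨P', π, hπ, z, hz⟩ :=
    surjective_up_to_refinements_of_epi (K.homologyπ 0) (a ≫ (hff K).hom)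
  refine ⟨P', π, hπ, Q.map (ofCycle (z ≫ K.iCycles 0) (by simp)), ?_⟩
  rw [← cancel_mono (hff K).hom, cls_Q_ofCycle]
  have h1 : K.liftCycles (z ≫ K.iCycles 0) 1 (by simp) (by simp) = z := by
    rw [← cancel_mono (K.iCycles 0), liftCycles_i]
  rw [h1, Category.assoc, hz]

/-- a morphism `P[0] ⟶ K` inducing zero on `H⁰` is killed by an epimorphism `P' ⟶ P`. -/
theorem exists_epi_kill {P : C} {K : DerivedCategory C} (ξ : Q.obj (sgl P) ⟶ K)
    (h : cls ξ = 0) :
    ∃ (P' : C) (π : P' ⟶ P) (_ : Epi π),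
      Q.map ((single C (ComplexShape.up ℤ) 0).map π) ≫ ξ = 0 := by
  let e : Q.obj (Q.objPreimage K) ≅ K := Q.objObjPreimageIso K
  obtain ⟨P', π, hπ, hk⟩ := exists_epi_kill_Q (ξ ≫ e.inv) (by rw [cls_postcomp, h, zero_comp])
  refine ⟨P', π, hπ, ?_⟩
  rw [← cancel_mono e.inv, Category.assoc, hk, zero_comp]

/-- every `P ⟶ H⁰(K)` is, after an epimorphism `P' ⟶ P`, the class of a morphism `P'[0] ⟶ K`. -/
theorem exists_epi_lift {P : C} {K : DerivedCategory C}
    (a : P ⟶ (DerivedCategory.homologyFunctor C 0).obj K) :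
    ∃ (P' : C) (π : P' ⟶ P) (_ : Epi π) (ξ : Q.obj (sgl P') ⟶ K), cls ξ = π ≫ a := by
  let e : Q.obj (Q.objPreimage K) ≅ K := Q.objObjPreimageIso K
  obtain ⟨P', π, hπ, ξ, hξ⟩ :=
    exists_epi_lift_Q (a ≫ (DerivedCategory.homologyFunctor C 0).map e.inv)
  refine ⟨P', π, hπ, ξ ≫ e.hom, ?_⟩
  rw [cls_postcomp, hξ, Category.assoc, Category.assoc, ← Functor.map_comp, e.inv_hom_id,
    CategoryTheory.Functor.map_id, Category.comp_id]

end Groth.Agent.Helper6.DRef
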