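import Mathlib
import Groth.Agent.Lib.Helper6.DRef.Refine
import Groth.Agent.Lib.Helper6.DRef.FreeSec

set_option linter.unusedSectionVars false
set_option linter.unusedVariables false
set_option linter.unusedSimpArgs false
set_option autoImplicit false
set_option linter.style.haveILetI false
set_option maxHeartbeats 400000

universe u

noncomputable section

namespace Groth.Agent.Helper6.DRef

open CategoryTheory CategoryTheory.Limits Opposite HomologicalComplex DerivedCategory

variable {C : Type u} [SmallCategory C] (J : GrothendieckTopology C)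
  [HasDerivedCategory.{u} (Sheaf J AddCommGrpCat.{u})]

/-- the presheaf `U ↦ Hom_D(ℤ[h_U]^#[0], M)` -/
abbrev hPre (M : DerivedCategory (Sheaf J AddCommGrpCat.{u})) : Cᵒᵖ ⥤ AddCommGrpCat.{u} :=
  (yoneda ⋙ (Functor.whiskeringRight _ _ _).obj AddCommGrpCat.free.{u} ⋙
      presheafToSheaf J AddCommGrpCat.{u} ⋙
      DerivedCategory.singleFunctor (Sheaf J AddCommGrpCat.{u}) 0).op ⋙
    preadditiveYoneda.obj M

/-- an element of `hPre M U` as a morphism out of `Q (ℤ_U[0])`. -/
def toQ {M : DerivedCategory (Sheaf J AddCommGrpCat.{u})} {U : C}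
    (ξ : (DerivedCategory.singleFunctor (Sheaf J AddCommGrpCat.{u}) 0).obj ((Fr J).obj U) ⟶ M) :
    Q.obj (sgl ((Fr J).obj U)) ⟶ M := ξ

/-- the comparison map on sections -/
def phiFun (M : DerivedCategory (Sheaf J AddCommGrpCat.{u})) (U : C)
    (ξ : (DerivedCategory.singleFunctor (Sheaf J AddCommGrpCat.{u}) 0).obj ((Fr J).obj U) ⟶ M) :
    ToType (((DerivedCategory.homologyFunctor (Sheaf J AddCommGrpCat.{u}) 0).obj M).obj.obj
      (op U)) :=
  secEquiv J U _ (cls (toQ J ξ))

lemma phiFun_add (M : DerivedCategory (Sheaf J AddCommGrpCat.{u})) (U : C)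
    (ξ ξ' : (DerivedCategory.singleFunctor (Sheaf J AddCommGrpCat.{u}) 0).obj ((Fr J).obj U) ⟶ M) :
    phiFun J M U (ξ + ξ') = phiFun J M U ξ + phiFun J M U ξ' := by
  unfold phiFun
  rw [← secEquiv_add, ← cls_add]
  rfl

lemma phiFun_map (M : DerivedCategory (Sheaf J AddCommGrpCat.{u})) {U V : C} (f : V ⟶ U)
    (ξ : (DerivedCategory.singleFunctor (Sheaf J AddCommGrpCat.{u}) 0).obj ((Fr J).obj U) ⟶ M) :
    phiFun J M V ((DerivedCategory.singleFunctor (Sheaf J AddCommGrpCat.{u}) 0).map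
      ((Fr J).map f) ≫ ξ) =
      ((DerivedCategory.homologyFunctor (Sheaf J AddCommGrpCat.{u}) 0).obj M).obj.map f.op
        (phiFun J M U ξ) := by
  unfold phiFun
  rw [← secEquiv_map_comp, ← cls_precomp]
  rfl

/-- the comparison morphism of presheaves `(U ↦ Hom_D(ℤ_U[0], M)) ⟶ H⁰(M)` -/
def phi (M : DerivedCategory (Sheaf J AddCommGrpCat.{u})) :
    hPre J M ⟶ ((DerivedCategory.homologyFunctor (Sheaf J AddCommGrpCat.{u}) 0).obj M).obj where
  app U := AddCommGrpCat.ofHom (AddMonoidHom.mk' (phiFun J M U.unop) (phiFun_add J M U.unop))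
  naturality U V f := by
    ext ξ
    exact phiFun_map J M f.unop ξ

lemma phi_app_apply (M : DerivedCategory (Sheaf J AddCommGrpCat.{u})) (U : C)
    (ξ : (DerivedCategory.singleFunctor (Sheaf J AddCommGrpCat.{u}) 0).obj ((Fr J).obj U) ⟶ M) :
    (phi J M).app (op U) ξ = phiFun J M U ξ := rfl

lemma phiFun_eq_zero_iff (M : DerivedCategory (Sheaf J AddCommGrpCat.{u})) (U : C)
    (ξ : (DerivedCategory.singleFunctor (Sheaf J AddCommGrpCat.{u}) 0).obj ((Fr J).obj U) ⟶ M) :
    phiFun J M U ξ = 0 ↔ cls (toQ J ξ) = 0 := by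
  unfold phiFun
  rw [← secEquiv_zero J U, (secEquiv J U _).apply_eq_iff_eq]

instance phi_locInj (M : DerivedCategory (Sheaf J AddCommGrpCat.{u})) :
    Presheaf.IsLocallyInjective J (phi J M) where
  equalizerSieve_mem {X} x y h := by
    obtain ⟨U⟩ := X
    change (DerivedCategory.singleFunctor (Sheaf J AddCommGrpCat.{u}) 0).obj ((Fr J).obj U) ⟶ M
      at x y
    have h0 : phiFun J M U (x - y) = 0 := by
      have h' : phiFun J M U x = phiFun J M U y := h
      have h2 := phiFun_add J M U (x - y) y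
      rw [sub_add_cancel, h'] at h2
      exact (add_eq_right.mp h2.symm)
    rw [phiFun_eq_zero_iff] at h0
    obtain ⟨P', π, hπ, hk⟩ := exists_epi_kill (toQ J (x - y)) h0
    obtain ⟨S, hS, hlift⟩ := exists_local_lift J π
    refine J.superset_covering ?_ hS
    intro V f hf
    obtain ⟨t, ht⟩ := hlift f hf
    change (DerivedCategory.singleFunctor (Sheaf J AddCommGrpCat.{u}) 0).map ((Fr J).map f) ≫ x =
      (DerivedCategory.singleFunctor (Sheaf J AddCommGrpCat.{u}) 0).map ((Fr J).map f) ≫ y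
    rw [← sub_eq_zero, ← Preadditive.comp_sub, ← ht, Functor.map_comp, Category.assoc]
    have hk' : (DerivedCategory.singleFunctor (Sheaf J AddCommGrpCat.{u}) 0).map π ≫ (x - y) = 0 :=
      hk
    rw [hk', comp_zero]

instance phi_locSurj (M : DerivedCategory (Sheaf J AddCommGrpCat.{u})) :
    Presheaf.IsLocallySurjective J (phi J M) where
  imageSieve_mem {U} s := by
    obtain ⟨P', π, hπ, ξ, hξ⟩ := exists_epi_lift ((secEquiv J U _).symm s)
    obtain ⟨S, hS, hlift⟩ := exists_local_lift J π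
    refine J.superset_covering ?_ hS
    intro V f hf
    obtain ⟨t, ht⟩ := hlift f hf
    let ξ' : (DerivedCategory.singleFunctor (Sheaf J AddCommGrpCat.{u}) 0).obj ((Fr J).obj V) ⟶ M :=
      (DerivedCategory.singleFunctor (Sheaf J AddCommGrpCat.{u}) 0).map t ≫ ξ
    refine ⟨ξ', ?_⟩
    change phiFun J M V ξ' = _
    unfold phiFun
    have h1 : cls (toQ J ξ') = t ≫ cls ξ := cls_precomp t ξ
    rw [h1, hξ, ← Category.assoc, ht, secEquiv_map_comp, Equiv.apply_symm_apply]

theorem sheafify_hPre_iso (M : DerivedCategory (Sheaf J AddCommGrpCat.{u})) :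
    Nonempty ((presheafToSheaf J AddCommGrpCat.{u}).obj (hPre J M) ≅
      (DerivedCategory.homologyFunctor (Sheaf J AddCommGrpCat.{u}) 0).obj M) := by
  have hW : J.W (phi J M) := J.W_of_isLocallyBijective (phi J M)
  have hiso : IsIso ((presheafToSheaf J AddCommGrpCat.{u}).map (phi J M)) := (J.W_iff _).1 hW
  exact ⟨asIso ((presheafToSheaf J AddCommGrpCat.{u}).map (phi J M)) ≪≫
    asIso ((sheafificationAdjunction J AddCommGrpCat.{u}).counit.app _)⟩

theorem sheafify_hPre_shift_iso (K : DerivedCategory (Sheaf J AddCommGrpCat.{u})) (q : ℤ) :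
    Nonempty ((presheafToSheaf J AddCommGrpCat.{u}).obj
        (hPre J ((shiftFunctor (DerivedCategory (Sheaf J AddCommGrpCat.{u})) q).obj K)) ≅
      (DerivedCategory.homologyFunctor (Sheaf J AddCommGrpCat.{u}) q).obj K) := by
  obtain ⟨e⟩ := sheafify_hPre_iso J ((shiftFunctor (DerivedCategory (Sheaf J AddCommGrpCat.{u})) q).obj K)
  exact ⟨e ≪≫ ((DerivedCategory.homologyFunctor (Sheaf J AddCommGrpCat.{u}) 0).shiftIso q 0 q
    (by simp)).app K⟩

end Groth.Agent.Helper6.DRef
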