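import Mathlib
import Groth.Agent.Lib.Helper6.DRef.Refine

set_option linter.unusedSectionVars false
set_option linter.unusedVariables false
set_option linter.unusedSimpArgs false
set_option autoImplicit false
set_option linter.style.haveILetI false
set_option maxHeartbeats 400000

universe w v u

noncomputable section

namespace Groth.Agent.Helper6.DRef

open CategoryTheory CategoryTheory.Limits HomologicalComplex DerivedCategory

variable {C : Type u} [Category.{v} C] [Abelian C] [HasDerivedCategory.{w} C]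

/-- `H⁰(X⟦b⟧) ≅ H^b(X)`, naturally -/
def h0sh (b : ℤ) : shiftFunctor (DerivedCategory C) b ⋙ DerivedCategory.homologyFunctor C 0 ≅
    DerivedCategory.homologyFunctor C b :=
  (DerivedCategory.homologyFunctor C 0).shiftIso b 0 b (by simp)

/-- `(N[-b])⟦b⟧ ≅ N[0]` -/
def sglSh (b : ℤ) (N : C) :
    ((DerivedCategory.singleFunctor C b).obj N)⟦b⟧ ≅ Q.obj (sgl N) :=
  ((DerivedCategory.singleFunctors C).shiftIso b 0 b (by simp)).app N

lemma epi_H0_of_epi_cls {P : C} {K : DerivedCategory C} (ξ : Q.obj (sgl P) ⟶ K) (h : Epi (cls ξ)) :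
    Epi ((DerivedCategory.homologyFunctor C 0).map ξ) := by
  have h1 : (DerivedCategory.homologyFunctor C 0).map ξ =
      (hff (sgl P)).hom ≫ (singleObjHomologySelfIso (ComplexShape.up ℤ) 0 P).hom ≫ cls ξ := by
    simp only [cls, Iso.hom_inv_id_assoc]
  rw [h1]
  infer_instance

theorem exists_neg_map (hneg : ∀ X : C, ∃ (N : C) (p : N ⟶ X), Epi p ∧ ∀ f : X ⟶ N, f = 0)
    (X X' : DerivedCategory C) (f : X ⟶ X') (b : ℤ) [X'.IsLE (b - 1)] :
    ∃ (N : C) (g : (DerivedCategory.singleFunctor C b).obj N ⟶ X),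
      Epi ((DerivedCategory.homologyFunctor C b).map g) ∧
        (∀ φ : (DerivedCategory.homologyFunctor C b).obj X ⟶ N, φ = 0) ∧ g ≫ f = 0 := by
  obtain ⟨P', π, hπ, ξ, hξ⟩ := exists_epi_lift (K := X⟦b⟧) ((h0sh b).inv.app X)
  have hz : IsZero ((DerivedCategory.homologyFunctor C 0).obj (X'⟦b⟧)) :=
    (DerivedCategory.isZero_of_isLE X' (b - 1) b (by lia)).of_iso ((h0sh b).app X')
  obtain ⟨P'', π', hπ', hk⟩ := exists_epi_kill (ξ ≫ f⟦b⟧') (hz.eq_of_tgt _ _)
  obtain ⟨N, p, hp, hN⟩ := hneg P''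
  let g' : Q.obj (sgl N) ⟶ X⟦b⟧ := Q.map ((single C (ComplexShape.up ℤ) 0).map (p ≫ π')) ≫ ξ
  have hg'f : g' ≫ f⟦b⟧' = 0 := by
    dsimp only [g']
    rw [Functor.map_comp, Functor.map_comp, Category.assoc, Category.assoc, hk, comp_zero]
  have hcls : cls g' = (p ≫ π') ≫ π ≫ (h0sh b).inv.app X := by
    dsimp only [g']
    rw [cls_precomp, hξ]
  have hepi : Epi (cls g') := by
    rw [hcls]
    infer_instance
  have hH0 := epi_H0_of_epi_cls g' hepi
  let g : (DerivedCategory.singleFunctor C b).obj N ⟶ X :=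
    (shiftFunctor (DerivedCategory C) b).preimage ((sglSh b N).hom ≫ g')
  have hg : g⟦b⟧' = (sglSh b N).hom ≫ g' := Functor.map_preimage _ _
  refine ⟨N, g, ?_, ?_, ?_⟩
  · have hnat := (h0sh b).hom.naturality g
    have h2 : (DerivedCategory.homologyFunctor C b).map g =
        (h0sh b).inv.app _ ≫ (DerivedCategory.homologyFunctor C 0).map (g⟦b⟧') ≫
          (h0sh b).hom.app X := by
      rw [← cancel_epi ((h0sh b).hom.app _), Iso.hom_inv_id_app_assoc]
      exact hnat.symm
    rw [h2, hg, Functor.map_comp]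
    infer_instance
  · intro φ
    have h3 : (π' ≫ π) ≫ φ = 0 := hN _
    haveI : Epi (π' ≫ π) := epi_comp _ _
    rw [← cancel_epi (π' ≫ π), h3, comp_zero]
  · apply (shiftFunctor (DerivedCategory C) b).map_injective
    rw [Functor.map_comp, hg, Category.assoc, hg'f, comp_zero, Functor.map_zero]

end Groth.Agent.Helper6.DRef
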