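import Mathlib
import Groth.Agent.Lib.Helper6.DRef.NegMap

set_option linter.unusedSectionVars false
set_option linter.unusedVariables false
set_option linter.unusedSimpArgs false
set_option autoImplicit false
set_option linter.style.haveILetI false
set_option maxHeartbeats 400000

universe w v u

noncomputable section

namespace Groth.Agent.Helper6.DRef

open CategoryTheory CategoryTheory.Limits HomologicalComplex DerivedCategory

variable {C : Type u} [Category.{v} C] [Abelian C] [HasDerivedCategory.{w} C]

/-- relation between `H^b(g)` and `H⁰(g⟦b⟧)` -/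
lemma homologyFunctor_map_eq_h0sh {X Y : DerivedCategory C} (g : X ⟶ Y) (b : ℤ) :
    (DerivedCategory.homologyFunctor C b).map g =
      (h0sh b).inv.app X ≫ (DerivedCategory.homologyFunctor C 0).map (g⟦b⟧') ≫
        (h0sh b).hom.app Y := by
  have hnat := (h0sh b).hom.naturality g
  rw [← cancel_epi ((h0sh b).hom.app _), Iso.hom_inv_id_app_assoc]
  exact hnat.symm

/-- every object receives a map from a single object in degree `b` which is epi on `H^b` -/
theorem exists_single_epi (X : DerivedCategory C) (b : ℤ) :
    ∃ (N : C) (g : (DerivedCategory.singleFunctor C b).obj N ⟶ X),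
      Epi ((DerivedCategory.homologyFunctor C b).map g) := by
  obtain ⟨N, π, hπ, ξ, hξ⟩ := exists_epi_lift (K := X⟦b⟧) ((h0sh b).inv.app X)
  have hepi : Epi (cls ξ) := by
    rw [hξ]
    infer_instance
  have hH0 := epi_H0_of_epi_cls ξ hepi
  let g : (DerivedCategory.singleFunctor C b).obj N ⟶ X :=
    (shiftFunctor (DerivedCategory C) b).preimage ((sglSh b N).hom ≫ ξ)
  have hg : g⟦b⟧' = (sglSh b N).hom ≫ ξ := Functor.map_preimage _ _
  refine ⟨N, g, ?_⟩
  rw [homologyFunctor_map_eq_h0sh, hg, Functor.map_comp]
  infer_instance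

/-- effaceability: a morphism from a single object in degree `b` inducing zero on `H^b` is
killed by an epimorphism -/
theorem exists_epi_kill_single {N : C} {X : DerivedCategory C} (b : ℤ)
    (g : (DerivedCategory.singleFunctor C b).obj N ⟶ X)
    (h : (DerivedCategory.homologyFunctor C b).map g = 0) :
    ∃ (N' : C) (π : N' ⟶ N) (_ : Epi π), (DerivedCategory.singleFunctor C b).map π ≫ g = 0 := by
  let ξ : Q.obj (sgl N) ⟶ X⟦b⟧ := (sglSh b N).inv ≫ g⟦b⟧'
  have hξ : cls ξ = 0 := by
    have h1 : (DerivedCategory.homologyFunctor C 0).map (g⟦b⟧') = 0 := by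
      have := homologyFunctor_map_eq_h0sh g b
      rw [h] at this
      have h2 : (h0sh b).hom.app _ ≫ 0 ≫ (h0sh b).inv.app X =
          (DerivedCategory.homologyFunctor C 0).map (g⟦b⟧') := by
        rw [this]
        simp
      rw [← h2]
      simp
    dsimp only [ξ]
    rw [cls, Functor.map_comp, h1, comp_zero, comp_zero, comp_zero]
  obtain ⟨N', π, hπ, hk⟩ := exists_epi_kill ξ hξ
  refine ⟨N', π, hπ, ?_⟩
  apply (shiftFunctor (DerivedCategory C) b).map_injective
  rw [Functor.map_comp, Functor.map_zero]
  have hnat : ((DerivedCategory.singleFunctor C b).map π)⟦b⟧' ≫ (sglSh b N).hom =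
      (sglSh b N').hom ≫ Q.map ((single C (ComplexShape.up ℤ) 0).map π) :=
    ((DerivedCategory.singleFunctors C).shiftIso b 0 b (by simp)).hom.naturality π
  have h3 : g⟦b⟧' = (sglSh b N).hom ≫ ξ := by
    dsimp only [ξ]
    rw [Iso.hom_inv_id_assoc]
  rw [h3, reassoc_of% hnat, hk, comp_zero]

end Groth.Agent.Helper6.DRef
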